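import Groth.Agent.ClSubLib.EssSurj
import Groth.Agent.QC.FiniteType

/-!
The annihilator ideal sheaf of a quasi-coherent module of finite type.
-/

set_option autoImplicit false
set_option backward.isDefEq.respectTransparency false

universe u

open CategoryTheory CategoryTheory.Limits AlgebraicGeometry Opposite
open Groth.Agent.QC (res resO res_smul isLoc_of_isQCoh)

namespace ClSubLib

variable {X : Scheme.{u}} (F : X.Modules)

theorem map_annihilator_basicOpen (hq : Coh.IsQCoh F) (hft : CohB1.IsFT F) (U : X.affineOpens)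
    (f : Γ(X, U)) :
    (Module.annihilator Γ(X, U.1) Γ(F, U.1)).map
        (X.presheaf.map (homOfLE <| X.basicOpen_le f).op).hom =
      Module.annihilator Γ(X, (X.affineBasicOpen f).1) Γ(F, (X.affineBasicOpen f).1) := by
  have hU := U.2
  have hloc := isLoc_of_isQCoh hU (M := F) (hM := hq)
  have hle : X.basicOpen f ≤ U.1 := X.basicOpen_le f
  have := hU.isLocalization_basicOpen f
  have hu : IsUnit (resO X hle f) :=
    IsLocalization.Away.algebraMap_isUnit (S := Γ(X, X.basicOpen f)) f
  change (Module.annihilator Γ(X, U.1) Γ(F, U.1)).map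
      (X.presheaf.map (homOfLE <| X.basicOpen_le f).op).hom =
    Module.annihilator Γ(X, X.basicOpen f) Γ(F, X.basicOpen f)
  refine le_antisymm (Ideal.map_le_iff_le_comap.mpr fun a ha => ?_) fun c hc => ?_
  · refine Ideal.mem_comap.mpr (Module.mem_annihilator.mpr fun m => ?_)
    obtain ⟨n, s, hs⟩ := hloc.exists_extend f m
    refine (hu.pow n).smul_eq_zero.mp ?_
    change resO X hle f ^ n • (resO X hle a • m) = 0
    rw [smul_comm, ← hs, ← res_smul, Module.mem_annihilator.mp ha s, map_zero]
  · obtain ⟨k, a, hka⟩ := IsLocalization.Away.surj f c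
    have hka' : c * resO X hle f ^ k = resO X hle a := hka
    have : Module.Finite Γ(X, U.1) Γ(F, U.1) :=
      Groth.Agent.QC.finite_sections hU hft (hM := hq)
    obtain ⟨G, hG⟩ := Module.Finite.fg_top (R := Γ(X, U.1)) (M := Γ(F, U.1))
    have hkill : ∀ m : Γ(F, U.1), ∃ n : ℕ, f ^ n • a • m = 0 := fun m => by
      refine hloc.exists_pow_smul_eq_zero f (a • m) ?_
      rw [res_smul, ← hka', mul_smul, smul_comm, Module.mem_annihilator.mp hc (res F hle m), smul_zero]
    choose n hn using hkill
    let N := G.sup n
    have hann : f ^ N * a ∈ Module.annihilator Γ(X, U.1) Γ(F, U.1) := by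
      rw [← Submodule.annihilator_top, ← hG, Submodule.mem_annihilator_span]
      rintro ⟨g, hg⟩
      have hle' : n g ≤ N := Finset.le_sup hg
      rw [← Nat.sub_add_cancel hle', pow_add, mul_assoc, mul_smul, mul_smul, hn, smul_zero]
    have h1 : resO X hle (f ^ N * a) ∈ (Module.annihilator Γ(X, U.1) Γ(F, U.1)).map
        (X.presheaf.map (homOfLE <| X.basicOpen_le f).op).hom := Ideal.mem_map_of_mem _ hann
    rw [map_mul, map_pow, ← hka', mul_comm c _, ← mul_assoc] at h1
    exact (Ideal.unit_mul_mem_iff_mem _ ((hu.pow N).mul (hu.pow k))).mp h1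

/-- The annihilator of a quasi-coherent module of finite type. -/
noncomputable def annIdeal (hq : Coh.IsQCoh F) (hft : CohB1.IsFT F) : X.IdealSheafData :=
  Scheme.IdealSheafData.mkOfMemSupportIff (fun U => Module.annihilator Γ(X, U.1) Γ(F, U.1))
    (map_annihilator_basicOpen F hq hft) (CohB1.support F) fun U x hx => by
      have : Module.Finite Γ(X, U.1) Γ(F, U.1) :=
        Groth.Agent.QC.finite_sections U.2 hft (hM := hq)
      rw [← Groth.Agent.QC.mem_moduleSupport_iff (hM := hq) U.2 hx, Module.mem_support_iff_of_finite]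
      rw [Scheme.mem_zeroLocus_iff]
      simp only [SetLike.mem_coe]
      constructor
      · intro h a ha hxa
        refine absurd (h ha) ?_
        rw [← U.2.fromSpec_image_basicOpen a] at hxa
        obtain ⟨p, hp, he⟩ := hxa
        rw [← U.2.fromSpec.isOpenEmbedding.injective
          (he.trans (U.2.fromSpec_primeIdealOf ⟨x, hx⟩).symm)]
        exact hp
      · intro h a ha
        by_contra hna
        refine h a ha ?_
        rw [← U.2.fromSpec_image_basicOpen a]
        exact ⟨U.2.primeIdealOf ⟨x, hx⟩, hna, U.2.fromSpec_primeIdealOf ⟨x, hx⟩⟩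

theorem killedBy_annIdeal (hq : Coh.IsQCoh F) (hft : CohB1.IsFT F) :
    ClSub.KilledByIdeal (annIdeal F hq hft) F :=
  fun _ _ ha m => Module.mem_annihilator.mp ha m

theorem range_annIdeal (hq : Coh.IsQCoh F) (hft : CohB1.IsFT F) :
    Set.range (annIdeal F hq hft).subschemeι = CohB1.support F := by
  rw [Scheme.IdealSheafData.range_subschemeι]
  rfl

theorem support_pushforward_subset {Z : Scheme.{u}} (i : Z ⟶ X) [IsClosedImmersion i] (G : Z.Modules) :
    CohB1.support ((Scheme.Modules.pushforward i).obj G) ⊆ Set.range i := fun y hy => by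
  by_contra h
  exact hy (Groth.Agent.KFlat.subsingleton_stalk_push i G h)

theorem support_congr {M N : X.Modules} (e : M ≅ N) : CohB1.support M = CohB1.support N := by
  ext x
  rw [← not_iff_not, notMem_support_iff_isZero, notMem_support_iff_isZero]
  exact Iso.isZero_iff ((DerSch.stalkFunctor X x).mapIso e)

end ClSubLib
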