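import Groth.Agent.ClSubLib.Basic
import Groth.Agent.QC.Support
import Groth.Agent.QC.Pullback
import Groth.Agent.KFlat.Pullback

/-!
Support of pullbacks and of extensions.
-/

set_option autoImplicit false
set_option backward.isDefEq.respectTransparency false

universe u

open CategoryTheory CategoryTheory.Limits AlgebraicGeometry

namespace ClSubLib

variable {X Y : Scheme.{u}}

theorem notMem_support_iff_isZero (M : X.Modules) (x : X) :
    x ∉ CohB1.support M ↔ IsZero ((DerSch.stalkFunctor X x).obj M) := by
  simp only [CohB1.support, Set.mem_ofPred_eq, not_not]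
  exact ⟨fun h => ModuleCat.isZero_of_iff_subsingleton.mpr h,
    fun h => ModuleCat.subsingleton_of_isZero h⟩

open Groth.Agent in
theorem support_pullback_subset (f : X ⟶ Y) (M : Y.Modules) :
    CohB1.support ((Scheme.Modules.pullback f).obj M) ⊆ f ⁻¹' CohB1.support M := by
  intro x hx
  by_contra h
  refine absurd hx ((notMem_support_iff_isZero _ x).mpr ?_)
  exact IsZero.of_iso ((ModuleCat.extendScalars.{u, u, u} (f.stalkMap x).hom).map_isZero
    ((notMem_support_iff_isZero M (f x)).mp h)) ((KFlat.pullStalkIso f x).app M)

theorem support_shortExact (E : ShortComplex X.Modules) (hE : E.ShortExact) :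
    CohB1.support E.X₂ = CohB1.support E.X₁ ∪ CohB1.support E.X₃ := by
  have h : ∀ x, (E.map (DerSch.stalkFunctor X x)).ShortExact := fun x => hE.map_of_exact _
  ext x
  rw [Set.mem_union, ← not_iff_not, not_or, notMem_support_iff_isZero, notMem_support_iff_isZero,
    notMem_support_iff_isZero]
  constructor
  · intro h2
    have := (h x).mono_f
    have := (h x).epi_g
    exact ⟨IsZero.of_mono (E.map (DerSch.stalkFunctor X x)).f h2,
      IsZero.of_epi (E.map (DerSch.stalkFunctor X x)).g h2⟩
  · rintro ⟨h1, h3⟩
    exact (h x).exact.isZero_of_both_zeros (h1.eq_of_src _ _) (h3.eq_of_tgt _ _)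

end ClSubLib
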