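import Groth.Prelude.Def_ClSub2
import Mathlib.AlgebraicGeometry.IdealSheaf.Functorial
import Mathlib.AlgebraicGeometry.Morphisms.Proper
import Mathlib.AlgebraicGeometry.Morphisms.Finite

/-!
Closed subsets proper over a base: independence of the scheme structure, images, preimages, unions.
-/

set_option autoImplicit false

universe u

open CategoryTheory CategoryTheory.Limits AlgebraicGeometry

namespace ClSubLib

variable {X Y S : Scheme.{u}}

/-- Properness descends along a surjective universally closed morphism of sources. -/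
theorem isProper_of_surjective {T W : Scheme.{u}} (k : T ⟶ W) [Surjective k] [UniversallyClosed k]
    (h : W ⟶ S) [LocallyOfFiniteType h] [IsProper (k ≫ h)] : IsProper h := by
  have : UniversallyClosed h := .of_comp_surjective k h
  have hs : IsSeparated h := by
    constructor
    let R := k ≫ h
    let m : pullback R R ⟶ pullback h h := pullback.map R R h h k k (𝟙 _)
      (Category.comp_id _) (Category.comp_id _)
    have hfac : pullback.diagonal R ≫ m = k ≫ pullback.diagonal h := by
      apply pullback.hom_ext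
      · rw [Category.assoc, pullback.lift_fst, pullback.diagonal_fst_assoc, Category.assoc,
          pullback.diagonal_fst, Category.comp_id]
      · rw [Category.assoc, pullback.lift_snd, pullback.diagonal_snd_assoc, Category.assoc,
          pullback.diagonal_snd, Category.comp_id]
    have : UniversallyClosed m :=
      MorphismProperty.pullbackMap (P := @UniversallyClosed) ‹_› ‹_› rfl rfl
    have hrange : Set.range (pullback.diagonal h) = m '' Set.range (pullback.diagonal R) := by
      rw [← Set.range_comp]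
      ext w
      constructor
      · rintro ⟨v, rfl⟩
        obtain ⟨r, rfl⟩ := k.surjective v
        exact ⟨r, by rw [Function.comp_apply, ← Scheme.Hom.comp_apply, hfac, Scheme.Hom.comp_apply]⟩
      · rintro ⟨r, rfl⟩
        exact ⟨k r, by rw [Function.comp_apply, ← Scheme.Hom.comp_apply, ← hfac, Scheme.Hom.comp_apply]⟩
    have : IsSeparated R := inferInstanceAs (IsSeparated (k ≫ h))
    refine .of_isPreimmersion _ ?_
    rw [hrange]
    exact m.isClosedMap _ (pullback.diagonal R).isClosedEmbedding.isClosed_range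
  exact { toIsSeparated := hs, toUniversallyClosed := ‹_›, toLocallyOfFiniteType := ‹_› }

/-- The reduced closed subscheme on a closed subset. -/
noncomputable abbrev redι (Z : Set X) (hZ : IsClosed Z) :
    (Scheme.IdealSheafData.vanishingIdeal ⟨Z, hZ⟩).subscheme ⟶ X :=
  (Scheme.IdealSheafData.vanishingIdeal ⟨Z, hZ⟩).subschemeι

theorem range_redι (Z : Set X) (hZ : IsClosed Z) : Set.range (redι Z hZ) = Z := by
  rw [Scheme.IdealSheafData.range_subschemeι, Scheme.IdealSheafData.coe_support_vanishingIdeal]
  rfl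

/-- The reduced subscheme factors through a closed subscheme containing it. -/
theorem exists_fac {T : Scheme.{u}} (i : T ⟶ X) [IsClosedImmersion i] (Z : Set X) (hZ : IsClosed Z)
    (hsub : Z ⊆ Set.range i) :
    ∃ j : (Scheme.IdealSheafData.vanishingIdeal ⟨Z, hZ⟩).subscheme ⟶ T,
      IsClosedImmersion j ∧ j ≫ i = redι Z hZ := by
  have hle : i.ker ≤ (redι Z hZ).ker := by
    rw [Scheme.IdealSheafData.ker_subschemeι, ← Scheme.IdealSheafData.le_support_iff_le_vanishingIdeal]
    intro w hw
    change w ∈ (i.ker.support : Set _)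
    rw [Scheme.Hom.support_ker]
    exact subset_closure (hsub hw)
  refine ⟨IsClosedImmersion.lift i (redι Z hZ) hle, ?_, IsClosedImmersion.lift_fac _ _ _⟩
  have : IsClosedImmersion (IsClosedImmersion.lift i (redι Z hZ) hle ≫ i) := by
    rw [IsClosedImmersion.lift_fac]; infer_instance
  exact .of_comp _ i

/-- Closed subsets of a closed subscheme proper over `S` are proper over `S`. -/
theorem isProperOver_of_subset (f : X ⟶ S) {T : Scheme.{u}} (i : T ⟶ X) [IsClosedImmersion i]
    [IsProper (i ≫ f)] (Z : Set X) (hZ : IsClosed Z) (hsub : Z ⊆ Set.range i) :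
    ClSub.IsProperOver f Z := by
  obtain ⟨j, hj, hfac⟩ := exists_fac i Z hZ hsub
  refine ⟨hZ, ?_⟩
  change IsProper (redι Z hZ ≫ f)
  rw [← hfac, Category.assoc]
  infer_instance

theorem mono {f : X ⟶ S} {Z Z' : Set X} (h : ClSub.IsProperOver f Z) (hZ' : IsClosed Z')
    (hsub : Z' ⊆ Z) : ClSub.IsProperOver f Z' := by
  obtain ⟨hZ, hp⟩ := h
  have : IsProper (redι Z hZ ≫ f) := hp
  exact isProperOver_of_subset f (redι Z hZ) Z' hZ' (by rwa [range_redι])

/-- Any closed subscheme inside a closed subset proper over `S` is proper over `S`. -/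
theorem isProper_comp (f : X ⟶ S) [LocallyOfFiniteType f] {T : Scheme.{u}} (i : T ⟶ X)
    [IsClosedImmersion i] {Z : Set X} (h : ClSub.IsProperOver f Z) (hsub : Set.range i ⊆ Z) :
    IsProper (i ≫ f) := by
  have hT : IsClosed (Set.range i) := i.isClosedEmbedding.isClosed_range
  obtain ⟨_, hp⟩ := mono h hT hsub
  obtain ⟨j, hj, hfac⟩ := exists_fac i _ hT subset_rfl
  have : Surjective j := ⟨fun t => by
    obtain ⟨z, hz⟩ : i t ∈ Set.range (redι _ hT) := by rw [range_redι]; exact ⟨t, rfl⟩
    exact ⟨z, i.isClosedEmbedding.injective (by rw [← Scheme.Hom.comp_apply, hfac, hz])⟩⟩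
  have : IsProper (j ≫ i ≫ f) := by rw [← Category.assoc, hfac]; exact hp
  exact isProper_of_surjective j (i ≫ f)

/-- The image of a scheme proper over `S` under a universally closed morphism is proper over `S`. -/
theorem isProperOver_range (q : Y ⟶ S) [LocallyOfFiniteType q] {T : Scheme.{u}} (g : T ⟶ Y)
    [UniversallyClosed g] [IsProper (g ≫ q)] : ClSub.IsProperOver q (Set.range g) := by
  have hc : IsClosed (Set.range g) := g.isClosedMap.isClosed_range
  have hr : Set.range g.imageι = Set.range g := by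
    rw [Scheme.Hom.imageι, Scheme.IdealSheafData.range_subschemeι, Scheme.Hom.support_ker,
      hc.closure_eq]
  have : Surjective g.toImage := ⟨fun y => by
    obtain ⟨x, hx⟩ : g.imageι y ∈ Set.range g := hr ▸ ⟨y, rfl⟩
    exact ⟨x, g.imageι.isClosedEmbedding.injective
      (by rw [← Scheme.Hom.comp_apply, g.toImage_imageι, hx])⟩⟩
  have : UniversallyClosed (g.toImage ≫ g.imageι) := by rw [g.toImage_imageι]; infer_instance
  have : UniversallyClosed g.toImage :=
    MorphismProperty.of_postcomp (W := @UniversallyClosed) (W' := @IsSeparated) g.toImage g.imageι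
      inferInstance this
  have : IsProper (g.toImage ≫ g.imageι ≫ q) := by
    rw [← Category.assoc, g.toImage_imageι]; infer_instance
  have : IsProper (g.imageι ≫ q) := isProper_of_surjective g.toImage _
  exact isProperOver_of_subset q g.imageι _ hc hr.ge

theorem isProperOver_empty (f : X ⟶ S) : ClSub.IsProperOver f (∅ : Set X) := by
  have : IsEmpty (Scheme.IdealSheafData.vanishingIdeal (⟨∅, isClosed_empty⟩ :
      TopologicalSpace.Closeds X)).subscheme := ⟨fun z => by
    have hz : redι (∅ : Set X) isClosed_empty z ∈ Set.range (redι (∅ : Set X) isClosed_empty) :=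
      ⟨z, rfl⟩
    exact (range_redι (∅ : Set X) isClosed_empty ▸ hz :)⟩
  exact ⟨isClosed_empty, inferInstance⟩

theorem isProperOver_union (f : X ⟶ S) [LocallyOfFiniteType f] {Z Z' : Set X}
    (h : ClSub.IsProperOver f Z) (h' : ClSub.IsProperOver f Z') :
    ClSub.IsProperOver f (Z ∪ Z') := by
  obtain ⟨hZ, hp⟩ := h
  obtain ⟨hZ', hp'⟩ := h'
  let a := redι Z hZ
  let b := redι Z' hZ'
  have : IsProper (a ≫ f) := hp
  have : IsProper (b ≫ f) := hp'
  have hm : IsProper (coprod.map (a ≫ f) (b ≫ f)) :=
    IsZariskiLocalAtTarget.coprodMap _ _ ‹IsProper (a ≫ f)› ‹IsProper (b ≫ f)›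
  have : IsProper (coprod.desc a b ≫ f) := by
    rw [show coprod.desc a b ≫ f = coprod.map (a ≫ f) (b ≫ f) ≫ coprod.desc (𝟙 S) (𝟙 S) by
      rw [coprod.map_desc, Category.comp_id, Category.comp_id, coprod.desc_comp]]
    infer_instance
  have hr := isProperOver_range f (coprod.desc a b)
  refine mono hr (hZ.union hZ') fun x hx => ?_
  rcases hx with hx | hx
  · obtain ⟨z, hz⟩ := (range_redι Z hZ).symm ▸ hx
    refine ⟨(coprod.inl : _ ⟶ (Scheme.IdealSheafData.vanishingIdeal ⟨Z, hZ⟩).subscheme ⨿ (Scheme.IdealSheafData.vanishingIdeal ⟨Z', hZ'⟩).subscheme) z, ?_⟩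
    rw [← Scheme.Hom.comp_apply, coprod.inl_desc]; exact hz
  · obtain ⟨z, hz⟩ := (range_redι Z' hZ').symm ▸ hx
    refine ⟨(coprod.inr : _ ⟶ (Scheme.IdealSheafData.vanishingIdeal ⟨Z, hZ⟩).subscheme ⨿ (Scheme.IdealSheafData.vanishingIdeal ⟨Z', hZ'⟩).subscheme) z, ?_⟩
    rw [← Scheme.Hom.comp_apply, coprod.inr_desc]; exact hz

theorem isProperOver_iUnion (f : X ⟶ S) [LocallyOfFiniteType f] (ι : Type*) [Finite ι]
    (Z : ι → Set X) (hZ : ∀ i, ClSub.IsProperOver f (Z i)) : ClSub.IsProperOver f (⋃ i, Z i) := by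
  induction ι using Finite.induction_empty_option with
  | of_equiv e ih => rw [← e.surjective.iUnion_comp]; exact ih _ fun i => hZ _
  | h_empty => rw [Set.iUnion_of_empty]; exact isProperOver_empty f
  | h_option ih =>
    rw [Set.iUnion_option]
    exact isProperOver_union f (hZ none) (ih _ fun i => hZ _)

theorem isProperOver_preimage {p : X ⟶ S} {q : Y ⟶ S} (f : X ⟶ Y) [IsProper f] (w : f ≫ q = p)
    {Z : Set Y} (hZ : ClSub.IsProperOver q Z) : ClSub.IsProperOver p (f ⁻¹' Z) := by
  obtain ⟨hc, hp⟩ := hZ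
  have : IsProper (redι Z hc ≫ q) := hp
  have : IsProper (pullback.fst f (redι Z hc) ≫ p) := by
    rw [← w, ← Category.assoc, pullback.condition, Category.assoc]; infer_instance
  refine isProperOver_of_subset p (pullback.fst f (redι Z hc)) _ (hc.preimage f.continuous) fun x hx => ?_
  obtain ⟨z, hz⟩ := (range_redι Z hc).symm ▸ hx
  obtain ⟨v, hv, -⟩ := Scheme.Pullback.exists_preimage_pullback x z hz.symm
  exact ⟨v, hv⟩

theorem isProperOver_baseChange {X' S' : Scheme.{u}} {f : X ⟶ S} {g : S' ⟶ S} {g' : X' ⟶ X}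
    {f' : X' ⟶ S'} (sq : IsPullback g' f' f g) {Z : Set X} (hZ : ClSub.IsProperOver f Z) :
    ClSub.IsProperOver f' (g' ⁻¹' Z) := by
  obtain ⟨hc, hp⟩ := hZ
  have hP := (IsPullback.of_hasPullback g' (redι Z hc)).flip.paste_vert sq
  have : IsProper (pullback.fst g' (redι Z hc) ≫ f') :=
    MorphismProperty.of_isPullback (P := @IsProper) hP hp
  refine isProperOver_of_subset f' (pullback.fst g' (redι Z hc)) _ (hc.preimage g'.continuous)
    fun x hx => ?_
  obtain ⟨z, hz⟩ := (range_redι Z hc).symm ▸ hx
  obtain ⟨v, hv, -⟩ := Scheme.Pullback.exists_preimage_pullback x z hz.symm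
  exact ⟨v, hv⟩

end ClSubLib
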