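import Groth.Agent.ClSubLib.Support
import Groth.Agent.KFlat.ClosedImm

/-!
A module killed by the ideal of a closed immersion comes from the subscheme.
-/

set_option autoImplicit false
set_option backward.isDefEq.respectTransparency false

universe u

open CategoryTheory CategoryTheory.Limits AlgebraicGeometry Opposite Groth.Agent.KFlat

namespace ClSubLib

variable {Z X : Scheme.{u}} (i : Z ⟶ X) [IsClosedImmersion i] (M : X.Modules)

theorem exists_affine_le {W : X.Opens} {y : X} (hy : y ∈ W) :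
    ∃ U : X.affineOpens, y ∈ U.1 ∧ U.1 ≤ W := by
  obtain ⟨_, ⟨V : X.Opens, hV : IsAffineOpen V, rfl⟩, hyV, hVW⟩ :=
    X.isBasis_affineOpens.exists_subset_of_mem_open (show y ∈ (W : Set X) from hy) W.2
  exact ⟨⟨V, hV⟩, hyV, hVW⟩

/-- The kernel of the stalk map annihilates the stalk. -/
theorem smul_stalk_eq_zero (hk : ClSub.KilledByIdeal i.ker M) (z : Z)
    (r : X.presheaf.stalk (i z)) (hr : (i.stalkMap z).hom r = 0) (m : M.presheaf.stalk (i z)) :
    r • m = 0 := by
  obtain ⟨W, hW, s, rfl⟩ := TopCat.Presheaf.exists_germ_eq M.presheaf m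
  obtain ⟨⟨U, hU⟩, hxU, hUW⟩ := exists_affine_le (y := i z) hW
  let y : U := ⟨i z, hxU⟩
  let algX : Algebra Γ(X, U) (X.presheaf.stalk (i z)) := (X.presheaf.germ U (i z) hxU).hom.toAlgebra
  have : IsLocalization.AtPrime (X.presheaf.stalk (i z)) (hU.primeIdealOf y).asIdeal :=
    hU.isLocalization_stalk y
  obtain ⟨⟨a, t⟩, hat⟩ := IsLocalization.surj (hU.primeIdealOf y).asIdeal.primeCompl r
  have hV : IsAffineOpen (i ⁻¹ᵁ U) := hU.preimage i
  let yz : (i ⁻¹ᵁ U : Z.Opens) := ⟨z, hxU⟩
  let algZ : Algebra Γ(Z, i ⁻¹ᵁ U) (Z.presheaf.stalk z) := (Z.presheaf.germ (i ⁻¹ᵁ U) z hxU).hom.toAlgebra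
  have : IsLocalization.AtPrime (Z.presheaf.stalk z) (hV.primeIdealOf yz).asIdeal :=
    hV.isLocalization_stalk yz
  have ha : (Z.presheaf.germ (i ⁻¹ᵁ U) z hxU).hom ((i.app U).hom a) = 0 := by
    have h : (i.stalkMap z).hom ((X.presheaf.germ U (i z) hxU).hom a) = 0 := by
      have hat' : r * (X.presheaf.germ U (i z) hxU).hom (t : Γ(X, U)) =
          (X.presheaf.germ U (i z) hxU).hom a := hat
      rw [← hat', map_mul, hr, zero_mul]
    exact (Scheme.Hom.germ_stalkMap_apply i U z hxU a).symm.trans h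
  obtain ⟨c, hc⟩ := (IsLocalization.map_eq_zero_iff (hV.primeIdealOf yz).asIdeal.primeCompl
    (Z.presheaf.stalk z) _).mp
    (show algebraMap Γ(Z, i ⁻¹ᵁ U) (Z.presheaf.stalk z) ((i.app U).hom a) = 0 from ha)
  obtain ⟨b, hb⟩ := i.app_surjective U hU (c : Γ(Z, i ⁻¹ᵁ U))
  have hbu : IsUnit ((X.presheaf.germ U (i z) hxU).hom b) := by
    have h1 : IsUnit ((i.stalkMap z).hom ((X.presheaf.germ U (i z) hxU).hom b)) := by
      have h2 : IsUnit ((Z.presheaf.germ (i ⁻¹ᵁ U) z hxU).hom ((i.app U).hom b)) := by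
        rw [hb]; exact IsLocalization.map_units (Z.presheaf.stalk z) c
      exact (Scheme.Hom.germ_stalkMap_apply i U z hxU b).symm ▸ h2
    exact (isUnit_map_iff (i.stalkMap z).hom _).mp h1
  have hmem : b * a ∈ i.ker.ideal ⟨U, hU⟩ := by
    rw [Scheme.Hom.ker_apply, RingHom.mem_ker, map_mul, hb]
    exact hc
  let s' : Γ(M, U) := Groth.Agent.QC.res M hUW s
  have h0 : (b * a) • s' = 0 := hk ⟨U, hU⟩ _ hmem s'
  have hg : (X.presheaf.germ U (i z) hxU).hom (b * a) •
      M.presheaf.germ U (i z) hxU s' = 0 := by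
    exact (PresheafOfModules.germ_smul M.val (i z) U hxU (b * a) s').symm.trans
      ((congrArg _ h0).trans (map_zero _))
  have hu : IsUnit ((X.presheaf.germ U (i z) hxU).hom b * (X.presheaf.germ U (i z) hxU).hom (t : Γ(X, U))) :=
    hbu.mul (IsLocalization.map_units (X.presheaf.stalk (i z)) t)
  have hs' : M.presheaf.germ U (i z) hxU s' = M.presheaf.germ W (i z) hW s :=
    Groth.Agent.QC.germ_res M hUW (i z) hxU s
  have hat' : r * (X.presheaf.germ U (i z) hxU).hom (t : Γ(X, U)) =
      (X.presheaf.germ U (i z) hxU).hom a := hat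
  rw [map_mul, ← hat', hs'] at hg
  refine hu.smul_eq_zero.mp ?_
  rw [← hg, smul_smul]
  congr 1
  ring

/-- Outside the subscheme the module vanishes. -/
theorem subsingleton_stalk (hk : ClSub.KilledByIdeal i.ker M) {y : X} (hy : y ∉ Set.range i) :
    Subsingleton (M.presheaf.stalk y) := by
  refine subsingleton_of_forall_eq 0 fun m => ?_
  obtain ⟨W, hW, s, rfl⟩ := TopCat.Presheaf.exists_germ_eq M.presheaf m
  obtain ⟨⟨U, hU⟩, hyU, hUW⟩ := exists_affine_le
    (W := W ⊓ ⟨(Set.range i)ᶜ, i.isClosedEmbedding.isClosed_range.isOpen_compl⟩) (y := y) ⟨hW, hy⟩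
  have hbot : i ⁻¹ᵁ U = ⊥ := by
    ext w; simp only [TopologicalSpace.Opens.coe_bot, Set.mem_empty_iff_false, iff_false]
    exact fun hw => (hUW hw).2 ⟨w, rfl⟩
  have hmem : (1 : Γ(X, U)) ∈ i.ker.ideal ⟨U, hU⟩ := by
    rw [Scheme.Hom.ker_apply, RingHom.mem_ker]
    have : Subsingleton Γ(Z, i ⁻¹ᵁ U) := by rw [hbot]; infer_instance
    exact Subsingleton.elim _ _
  have h0 := hk ⟨U, hU⟩ _ hmem (Groth.Agent.QC.res M (hUW.trans inf_le_left) s)
  rw [one_smul] at h0
  rw [← Groth.Agent.QC.germ_res M (hUW.trans inf_le_left) y hyU, h0, map_zero]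

theorem kap_bijective (hk : ClSub.KilledByIdeal i.ker M) (z : Z) :
    Function.Bijective (kap i z M) := by
  let φ := (i.stalkMap z).hom
  have hφ : Function.Surjective φ := i.stalkMap_surjective z
  let F := (DerSch.stalkFunctor X (i z)).obj M
  constructor
  · let e := RingHom.quotientKerEquivOfSurjective hφ
    have htors : Module.IsTorsionBySet (X.presheaf.stalk (i z)) F (RingHom.ker φ : Set _) :=
      fun m r => smul_stalk_eq_zero i M hk z r.1 r.2 m
    let _ := htors.module
    let _ : Module (Z.presheaf.stalk z) F := Module.compHom F e.symm.toRingHom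
    have hsmul : ∀ (r : X.presheaf.stalk (i z)) (m : F), φ r • m = r • m := fun r m => by
      change e.symm (φ r) • m = r • m
      rw [show φ r = e (Ideal.Quotient.mk _ r) from rfl, RingEquiv.symm_apply_apply]
      rfl
    let P : ModuleCat.{u} (Z.presheaf.stalk z) := ModuleCat.of _ F
    let h : F ⟶ (ModuleCat.restrictScalars φ).obj P :=
      ModuleCat.ofHom (Y := (ModuleCat.restrictScalars φ).obj P)
        { toFun := fun m => (m : F)
          map_add' := fun _ _ => rfl
          map_smul' := fun r (m : F) => (hsmul r m).symm }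
    obtain ⟨g, hg⟩ := exists_pull_stalk_desc i z M (P := P) h
    intro a b hab
    exact ((hg a).symm.trans (congrArg g.hom hab)).trans (hg b)
  · let T := (DerSch.stalkFunctor Z z).obj ((Scheme.Modules.pullback i).obj M)
    let A : Submodule (Z.presheaf.stalk z) T :=
      { carrier := Set.range (kap i z M)
        add_mem' := by rintro _ _ ⟨a, rfl⟩ ⟨b, rfl⟩; exact ⟨a + b, map_add _ _ _⟩
        zero_mem' := ⟨0, map_zero _⟩
        smul_mem' := by
          rintro c _ ⟨a, rfl⟩
          obtain ⟨r, rfl⟩ := hφ c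
          exact ⟨r • a, kap_smul i z M r a⟩ }
    have h := pull_stalk_ext i z M (g := ModuleCat.ofHom A.mkQ) (g' := 0)
      fun m => (Submodule.Quotient.mk_eq_zero A).mpr ⟨m, rfl⟩
    intro t
    exact (Submodule.Quotient.mk_eq_zero A).mp (congrArg (fun g => g.hom t) h)

theorem isIso_unit (hk : ClSub.KilledByIdeal i.ker M) :
    IsIso ((Scheme.Modules.pullbackPushforwardAdjunction i).unit.app M) := by
  set η := (Scheme.Modules.pullbackPushforwardAdjunction i).unit.app M
  refine isIso_of_stalks η fun y => ?_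
  rw [ConcreteCategory.isIso_iff_bijective]
  by_cases hy : y ∈ Set.range i
  · obtain ⟨z, rfl⟩ := hy
    have hcomp : ∀ m, pushStalk i z _ (((DerSch.stalkFunctor X (i z)).map η).hom m) = kap i z M m :=
      fun m => by
        obtain ⟨U, hU, s, rfl⟩ := exists_pgerm (DCoh.toP.obj M) (i z) m
        refine (congrArg (pushStalk i z _) (pstMap_germ (DCoh.toP.map η) _ hU s)).trans ?_
        exact (pushStalk_germ i z _ U hU _).trans (kap_germ i z M U hU s).symm
    refine (Function.Bijective.of_comp_iff' (pushStalk_bijective i z _) _).mp ?_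
    rw [show (pushStalk i z _ ∘ ((DerSch.stalkFunctor X (i z)).map η).hom) = kap i z M from funext hcomp]
    exact kap_bijective i M hk z
  · have h1 := subsingleton_stalk i M hk hy
    have h2 := subsingleton_stalk_push i ((Scheme.Modules.pullback i).obj M) hy
    exact ⟨fun a b _ => h1.elim a b, fun b => ⟨0, @Subsingleton.elim _ h2 _ _⟩⟩

theorem exists_pushforward_iso (hM : Coh.IsCoh M) (hk : ClSub.KilledByIdeal i.ker M) :
    ∃ G : Z.Modules, Coh.IsCoh G ∧ Nonempty ((Scheme.Modules.pushforward i).obj G ≅ M) :=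
  haveI := isIso_unit i M hk
  ⟨_, Groth.Agent.QC.isCoh_pullback i hM,
    ⟨(asIso ((Scheme.Modules.pullbackPushforwardAdjunction i).unit.app M)).symm⟩⟩

end ClSubLib
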